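import Groth.Agent.L22.SchemeDim
import Groth.Agent.L22.AffineDim
import Groth.Agent.L06.Dim
import Mathlib.AlgebraicGeometry.Pullbacks
import Mathlib.RingTheory.TensorProduct.MvPolynomial
import Mathlib.RingTheory.NoetherNormalization
import Mathlib.RingTheory.KrullDimension.Polynomial
import Mathlib.RingTheory.Flat.Basic

/-!
The dimension of a scheme locally of finite type over a field is unchanged by extensions of the field.
-/

set_option autoImplicit false
universe u

open CategoryTheory CategoryTheory.Limits AlgebraicGeometry TopologicalSpace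
open scoped TensorProduct

noncomputable section

namespace Groth.L21.CurvFib

theorem ringKrullDim_tensor_field (k : Type u) [Field k] (Ω : Type u) [Field Ω] [Algebra k Ω]
    (A : Type u) [CommRing A] [Algebra k A] [Algebra.FiniteType k A] :
    ringKrullDim (A ⊗[k] Ω) = ringKrullDim A := by
  rcases subsingleton_or_nontrivial A with hA | hA
  · haveI : Subsingleton (A ⊗[k] Ω) := Module.subsingleton A _
    rw [ringKrullDim_eq_bot_of_subsingleton, ringKrullDim_eq_bot_of_subsingleton]
  obtain ⟨d, g, hg, hgint⟩ := exists_integral_inj_algHom_of_fg k A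
  let G := Algebra.TensorProduct.map g (AlgHom.id k Ω)
  have hGinj : Function.Injective G :=
    Module.Flat.rTensor_preserves_injective_linearMap (M := Ω) g.toLinearMap hg
  have hGint : G.toRingHom.IsIntegral := by
    intro z
    induction z with
    | zero => exact ⟨Polynomial.X, Polynomial.monic_X, by simp⟩
    | tmul a w =>
      have h1 : G.toRingHom.IsIntegralElem (a ⊗ₜ[k] (1 : Ω)) := by
        obtain ⟨f, hf, hfa⟩ := hgint a
        refine ⟨f.map (Algebra.TensorProduct.includeLeft (R := k) (S := k) (B := Ω)).toRingHom, hf.map _, ?_⟩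
        rw [Polynomial.eval₂_map]
        have : G.toRingHom.comp (Algebra.TensorProduct.includeLeft (R := k) (S := k) (B := Ω)).toRingHom =
            (Algebra.TensorProduct.includeLeft (R := k) (S := k) (A := A) (B := Ω)).toRingHom.comp g.toRingHom := by
          ext x <;> simp [G]
        rw [this]
        show Polynomial.eval₂ _ ((Algebra.TensorProduct.includeLeft (R := k) (S := k) (A := A) (B := Ω)).toRingHom a) f = 0
        rw [← Polynomial.hom_eval₂, hfa, map_zero]
      have h2 : G.toRingHom.IsIntegralElem ((1 : A) ⊗ₜ[k] w) := by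
        have := G.toRingHom.isIntegralElem_map (x := (1 : MvPolynomial (Fin d) k) ⊗ₜ[k] w)
        simpa [G] using this
      have := RingHom.IsIntegralElem.mul G.toRingHom h1 h2
      simpa using this
    | add x y hx hy => exact RingHom.IsIntegralElem.add G.toRingHom hx hy
  letI := G.toRingHom.toAlgebra
  haveI : Algebra.IsIntegral (MvPolynomial (Fin d) k ⊗[k] Ω) (A ⊗[k] Ω) := ⟨hGint⟩
  rw [Groth.L22.AffineDim.ringKrullDim_eq_of_isIntegral (R := MvPolynomial (Fin d) k ⊗[k] Ω) (S := A ⊗[k] Ω) hGinj,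
    ringKrullDim_eq_of_ringEquiv ((Algebra.TensorProduct.comm k _ Ω).toRingEquiv.trans
      (MvPolynomial.algebraTensorAlgEquiv k Ω).toRingEquiv)]
  letI := g.toRingHom.toAlgebra
  haveI : Algebra.IsIntegral (MvPolynomial (Fin d) k) A := ⟨hgint⟩
  rw [Groth.L22.AffineDim.ringKrullDim_eq_of_isIntegral (R := MvPolynomial (Fin d) k) (S := A) hg,
    MvPolynomial.ringKrullDim_of_isNoetherianRing, MvPolynomial.ringKrullDim_of_isNoetherianRing,
    ringKrullDim_eq_zero_of_field, ringKrullDim_eq_zero_of_field]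

/-- Base change to a field extension preserves the dimension. -/
theorem topologicalKrullDim_eq_of_isPullback (k Ω : Type u) [Field k] [Field Ω]
    {X X' : Scheme.{u}} (p : X ⟶ Spec (CommRingCat.of k)) [LocallyOfFiniteType p]
    (s : Spec (CommRingCat.of Ω) ⟶ Spec (CommRingCat.of k)) (q : X' ⟶ Spec (CommRingCat.of Ω))
    (i : X' ⟶ X) (hi : IsPullback i q p s) : topologicalKrullDim X' = topologicalKrullDim X := by
  obtain ⟨ψ, rfl⟩ := Spec.map_surjective s
  letI := ψ.hom.toAlgebra
  have key : ∀ U : X.affineOpens, topologicalKrullDim ((i ⁻¹ᵁ U.1 : X'.Opens) : Set X') =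
      topologicalKrullDim ((U.1 : X.Opens) : Set X) := by
    rintro ⟨U, hU⟩
    obtain ⟨φ, hφ⟩ := Spec.map_surjective (hU.isoSpec.inv ≫ U.ι ≫ p)
    letI := φ.hom.toAlgebra
    haveI : LocallyOfFiniteType (hU.isoSpec.inv ≫ U.ι ≫ p) := inferInstance
    haveI : Algebra.FiniteType k Γ(X, U) := by
      have h := (HasRingHomProperty.Spec_iff (P := @LocallyOfFiniteType) (φ := φ)).mp (hφ ▸ inferInstance)
      exact h
    have h1 : IsPullback (i ∣_ U) ((i ⁻¹ᵁ U).ι ≫ q) (U.ι ≫ p) (Spec.map ψ) :=
      (isPullback_morphismRestrict i U).paste_vert hi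
    have h2 : IsPullback (i ∣_ U ≫ hU.isoSpec.hom) ((i ⁻¹ᵁ U).ι ≫ q) (Spec.map φ) (Spec.map ψ) :=
      h1.of_iso (Iso.refl _) hU.isoSpec (Iso.refl _) (Iso.refl _) (by simp) (by simp)
        (by rw [hφ]; simp) (by simp)
    have e : (i ⁻¹ᵁ U : X'.Opens).toScheme ≅ Spec (CommRingCat.of (Γ(X, U) ⊗[k] Ω)) :=
      h2.isoPullback ≪≫ pullbackSpecIso k Γ(X, U) Ω
    rw [Groth.L22.SchemeDim.topologicalKrullDim_affineOpen hU, ← ringKrullDim_tensor_field k Ω Γ(X, U),
      ← PrimeSpectrum.topologicalKrullDim_eq_ringKrullDim]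
    exact IsHomeomorph.topologicalKrullDim_eq _ e.hom.homeomorph.isHomeomorph
  have cover : ∀ {T : Scheme.{u}} (O : X.affineOpens → T.Opens), (∀ y, ∃ U, y ∈ O U) →
      topologicalKrullDim T = ⨆ U, topologicalKrullDim ((O U : T.Opens) : Set T) := fun {T} O hO => by
    refine Groth.L06.Dim.eq_iSup _ fun l => ?_
    obtain ⟨y, hy⟩ := l.head.isIrreducible.nonempty
    obtain ⟨U, hU⟩ := hO y
    exact ⟨U, Groth.L06.Dim.length_le_of_head_inter l (O U).isOpen ⟨y, hy, hU⟩⟩
  have hX : ∀ y : X, ∃ U : X.affineOpens, y ∈ U.1 := fun y => by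
    obtain ⟨U, hU, hy, -⟩ := exists_isAffineOpen_mem_and_subset (Opens.mem_top y)
    exact ⟨⟨U, hU⟩, hy⟩
  rw [cover (fun U => U.1) hX, cover (fun U => i ⁻¹ᵁ U.1) fun y => hX (i y)]
  exact iSup_congr key

end Groth.L21.CurvFib
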