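import Groth.Prelude.Def_MoreMor
import Groth.Prelude.Def_AlgSp3
import Groth.Agent.L05.Henselization.EtaleLike
import Groth.Agent.L18.FiberStalk
import Mathlib.AlgebraicGeometry.Morphisms.Etale
import Mathlib.AlgebraicGeometry.Morphisms.FlatRank
import Mathlib.RingTheory.Unramified.LocalRing

/-!
Fibre local rings over schemes etale over a field.
-/

set_option autoImplicit false
universe u

open CategoryTheory CategoryTheory.Limits AlgebraicGeometry IsLocalRing

noncomputable section

namespace Groth.L21.CurvFib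

theorem map_maximalIdeal_stalkMap_of_etale {X Y : Scheme.{u}} (g : X ⟶ Y) [Etale g] (x : X) :
    (maximalIdeal (Y.presheaf.stalk (g x))).map (g.stalkMap x).hom = maximalIdeal (X.presheaf.stalk x) := by
  algebraize [(g.stalkMap x).hom]
  haveI : IsLocalHom (algebraMap (Y.presheaf.stalk (g x)) (X.presheaf.stalk x)) :=
    inferInstanceAs <| IsLocalHom (g.stalkMap x).hom
  haveI : Algebra.EssFiniteType (Y.presheaf.stalk (g x)) (X.presheaf.stalk x) := LocallyOfFiniteType.stalkMap g x
  haveI : Algebra.FormallyUnramified (Y.presheaf.stalk (g x)) (X.presheaf.stalk x) := FormallyUnramified.stalkMap g x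
  exact Algebra.FormallyUnramified.map_maximalIdeal

theorem maximalIdeal_stalk_spec_field {K : Type u} [Field K] (x : Spec (CommRingCat.of K)) :
    maximalIdeal ((Spec (CommRingCat.of K)).presheaf.stalk x) = ⊥ := by
  haveI : IsLocalRing ((Spec.structureSheaf K).presheaf.stalk x) :=
    inferInstanceAs (IsLocalRing ((Spec (CommRingCat.of K)).presheaf.stalk x))
  show maximalIdeal ((Spec.structureSheaf K).presheaf.stalk x) = (⊥ : Ideal ((Spec.structureSheaf K).presheaf.stalk x))
  rw [← IsLocalization.AtPrime.map_eq_maximalIdeal (x : PrimeSpectrum K).asIdeal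
    ((Spec.structureSheaf K).presheaf.stalk x)]
  rw [(Ideal.eq_bot_or_top (x : PrimeSpectrum K).asIdeal).resolve_right (x : PrimeSpectrum K).2.ne_top]
  exact Ideal.map_bot

theorem maximalIdeal_stalk_of_etale {K : Type u} [Field K] {V : Scheme.{u}}
    (b : V ⟶ Spec (CommRingCat.of K)) [Etale b] (v : V) : maximalIdeal (V.presheaf.stalk v) = ⊥ := by
  rw [← map_maximalIdeal_stalkMap_of_etale b v, maximalIdeal_stalk_spec_field, Ideal.map_bot]

theorem flat_stalkMap_of_maximalIdeal_eq_bot {U V : Scheme.{u}} (h : U ⟶ V) (u : U)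
    (hv : maximalIdeal (V.presheaf.stalk (h u)) = ⊥) : (h.stalkMap u).hom.Flat := by
  have hf : IsField (V.presheaf.stalk (h u)) := IsLocalRing.isField_iff_maximalIdeal_eq.mpr hv
  letI := hf.toField
  algebraize [(h.stalkMap u).hom]
  show Module.Flat (V.presheaf.stalk (h u)) (U.presheaf.stalk u)
  infer_instance

/-- Over a point with field local ring the fibre has the same local ring. -/
theorem nonempty_fibre_stalk_equiv {U V : Scheme.{u}} (h : U ⟶ V) (u : U)
    (hv : maximalIdeal (V.presheaf.stalk (h u)) = ⊥) :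
    Nonempty (U.presheaf.stalk u ≃+* (h.fiber (h u)).presheaf.stalk (h.asFiber u)) := by
  obtain ⟨hsurj, hker⟩ := Groth.L18.stalkMap_fiberι h (h u) (h.asFiber u)
  have hpt : (h.fiberι (h u)) (h.asFiber u) = u := h.fiberι_asFiber u
  have key : ∀ u' : U, u' = u →
      (maximalIdeal (V.presheaf.stalk (h u'))).map (h.stalkMap u').hom = ⊥ := by
    rintro _ rfl
    rw [hv, Ideal.map_bot]
  have hinj : Function.Injective ((h.fiberι (h u)).stalkMap (h.asFiber u)).hom := by
    rw [RingHom.injective_iff_ker_eq_bot, hker]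
    exact key _ hpt
  exact ⟨((U.presheaf.stalkCongr (.of_eq hpt)).commRingCatIsoToRingEquiv).symm.trans
    (RingEquiv.ofBijective _ ⟨hinj, hsurj⟩)⟩

/-- The property of the fibre local rings, for charts over a family over a field. -/
theorem locP_fibre_iff {S : Scheme.{u}} (k : Type u) [Field k] (t : Spec (CommRingCat.of k) ⟶ S)
    (X : Scheme.{u}) (p : X ⟶ Spec (CommRingCat.of k)) [LocallyOfFiniteType p]
    (Q : ∀ (R : Type u) [CommRing R], Prop)
    (hequiv : ∀ {R R' : Type u} [CommRing R] [CommRing R'] (_ : R ≃+* R'), Q R → Q R')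
    (hetale : ∀ (A B : Type u) [CommRing A] [IsLocalRing A] [IsNoetherianRing A] [CommRing B]
      [IsLocalRing B] [IsNoetherianRing B] [Algebra A B] [Module.Flat A B],
      (maximalIdeal A).map (algebraMap A B) = maximalIdeal B → Q A → Q B) :
    AlgSp.LocP (fun _ _ g => ∀ x, (g.stalkMap x).hom.Flat ∧
        Q ((g.fiber (g x)).presheaf.stalk (g.asFiber x)))
      ((AlgSp.yon S).map (Over.homMk p rfl : Over.mk (p ≫ t) ⟶ Over.mk t)) ↔
      ∀ x : ↥X, Q (X.presheaf.stalk x) := by
  haveI : IsLocallyNoetherian X := LocallyOfFiniteType.isLocallyNoetherian p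
  refine ⟨fun H x => ?_, fun H U V a b h ha hb w u => ?_⟩
  · have h1 := (AlgSp.locP_yon_map H x).2
    obtain ⟨e⟩ := nonempty_fibre_stalk_equiv p x (maximalIdeal_stalk_spec_field _)
    exact hequiv e.symm h1
  · obtain ⟨a', rfl⟩ := (AlgSp.yon S).map_surjective a
    obtain ⟨b', rfl⟩ := (AlgSp.yon S).map_surjective b
    haveI : Etale a'.left := (AlgSp.repWith_yon_map_iff _ _).1 ha
    haveI : Etale b'.left := (AlgSp.repWith_yon_map_iff _ _).1 hb
    haveI : IsLocallyNoetherian (Over.mk (p ≫ t)).left := inferInstanceAs (IsLocallyNoetherian X)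
    haveI : IsLocallyNoetherian U.left := LocallyOfFiniteType.isLocallyNoetherian a'.left
    have hv : maximalIdeal (V.left.presheaf.stalk (h.left u)) = ⊥ :=
      maximalIdeal_stalk_of_etale b'.left (h.left u)
    refine ⟨flat_stalkMap_of_maximalIdeal_eq_bot h.left u hv, ?_⟩
    obtain ⟨e⟩ := nonempty_fibre_stalk_equiv h.left u hv
    refine hequiv e ?_
    letI := (a'.left.stalkMap u).hom.toAlgebra
    haveI : Module.Flat ((Over.mk (p ≫ t)).left.presheaf.stalk (a'.left u)) (U.left.presheaf.stalk u) :=
      Flat.stalkMap a'.left u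
    haveI : IsNoetherianRing ((Over.mk (p ≫ t)).left.presheaf.stalk (a'.left u)) :=
      inferInstanceAs (IsNoetherianRing (X.presheaf.stalk (a'.left u)))
    exact hetale _ _ (map_maximalIdeal_stalkMap_of_etale a'.left u) (H (a'.left u))

end Groth.L21.CurvFib
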