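import Mathlib.AlgebraicGeometry.Morphisms.LocalFlatDescent
import Mathlib.AlgebraicGeometry.Morphisms.QuasiFinite
import Mathlib.AlgebraicGeometry.Morphisms.Integral
import Mathlib.AlgebraicGeometry.Morphisms.Smooth
import Mathlib.FieldTheory.IsAlgClosed.AlgebraicClosure

/-!
Isolated singularities and extensions of the base field.
-/

set_option autoImplicit false
universe u

open CategoryTheory CategoryTheory.Limits AlgebraicGeometry TopologicalSpace

noncomputable section

namespace Groth.L21.CurvFib

/-- The points near which a morphism is not smooth. -/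
def singSet {X Y : Scheme.{u}} (p : X ⟶ Y) : Set X :=
  {x | ¬ ∃ U : X.Opens, x ∈ U ∧ Smooth (U.ι ≫ p)}

theorem isClosed_singSet {X Y : Scheme.{u}} (p : X ⟶ Y) : IsClosed (singSet p) := by
  refine ⟨isOpen_iff_forall_mem_open.mpr fun x hx => ?_⟩
  obtain ⟨U, hxU, hU⟩ := not_not.mp hx
  exact ⟨U, fun z hz => not_not.mpr ⟨U, hz, hU⟩, U.isOpen, hxU⟩

theorem smooth_of_forall_notMem_singSet {X Y : Scheme.{u}} (p : X ⟶ Y) (U : X.Opens)
    (h : ∀ x ∈ U, x ∉ singSet p) : Smooth (U.ι ≫ p) := by
  choose O hxO hO using fun x : U.toScheme => not_not.mp (h (U.ι x) x.2)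
  have hcov : ⨆ x : U.toScheme, U.ι ⁻¹ᵁ O x = ⊤ :=
    top_le_iff.mp fun x _ => Opens.mem_iSup.mpr ⟨x, hxO x⟩
  rw [IsZariskiLocalAtSource.iff_of_iSup_eq_top (P := @Smooth) (fun x => U.ι ⁻¹ᵁ O x) hcov]
  intro x
  have hr : Set.range ((U.ι ⁻¹ᵁ O x).ι ≫ U.ι) ⊆ Set.range (O x).ι := by
    rintro _ ⟨z, rfl⟩
    rw [Scheme.Opens.range_ι]
    exact z.2
  let l := IsOpenImmersion.lift (O x).ι ((U.ι ⁻¹ᵁ O x).ι ≫ U.ι) hr
  have hl : l ≫ (O x).ι = (U.ι ⁻¹ᵁ O x).ι ≫ U.ι := IsOpenImmersion.lift_fac _ _ _
  haveI : IsOpenImmersion (l ≫ (O x).ι) := hl ▸ inferInstance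
  haveI : IsOpenImmersion l := IsOpenImmersion.of_comp l (O x).ι
  have := hO x
  rw [← Category.assoc, ← hl, Category.assoc]
  infer_instance

/-- The isolated singularities of a scheme locally of finite type over a field stay isolated after
extending the field. -/
theorem finite_singSet_of_isPullback {k Ω : Type u} [Field k] [Field Ω] {X X' : Scheme.{u}}
    {p : X ⟶ Spec (CommRingCat.of k)} [LocallyOfFiniteType p]
    {s : Spec (CommRingCat.of Ω) ⟶ Spec (CommRingCat.of k)} {q : X' ⟶ Spec (CommRingCat.of Ω)}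
    {i : X' ⟶ X} (hi : IsPullback i q p s) (h : (singSet p).Finite) : (singSet q).Finite := by
  haveI : JacobsonSpace X := LocallyOfFiniteType.jacobsonSpace p
  have hsub : singSet q ⊆ ⋃ x ∈ singSet p, i ⁻¹' {x} := by
    intro x' hx'
    refine Set.mem_biUnion (show i x' ∈ singSet p from ?_) rfl
    rintro ⟨U, hxU, hU⟩
    have hpb : IsPullback (i ∣_ U) ((i ⁻¹ᵁ U).ι ≫ q) (U.ι ≫ p) s :=
      (isPullback_morphismRestrict i U).paste_vert hi
    exact hx' ⟨i ⁻¹ᵁ U, hxU, MorphismProperty.of_isPullback hpb hU⟩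
  refine (h.biUnion fun x hx => ?_).subset hsub
  have hxc : IsClosed ({x} : Set X) := by
    have hcl : closure ({x} : Set X) ⊆ singSet p :=
      (isClosed_singSet p).closure_subset_iff.mpr (Set.singleton_subset_iff.mpr hx)
    have hfin : (closure ({x} : Set X) ∩ closedPoints X).Finite := (h.subset hcl).inter_of_left _
    have heq : closure ({x} : Set X) = closure {x} ∩ closedPoints X := by
      refine (closure_inter_closedPoints isClosed_closure).symm.trans (IsClosed.closure_eq ?_)
      rw [← Set.biUnion_of_singleton (closure ({x} : Set X) ∩ closedPoints X)]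
      exact hfin.isClosed_biUnion fun y hy => hy.2
    exact (heq ▸ subset_closure (Set.mem_singleton x) :
      x ∈ closure ({x} : Set X) ∩ closedPoints X).2
  haveI : IsClosedImmersion (X.fromSpecResidueField x) := by
    refine IsClosedImmersion.of_isPreimmersion _ ?_
    rwa [Scheme.range_fromSpecResidueField]
  haveI : LocallyQuasiFinite (X.fromSpecResidueField x ≫ p) :=
    LocallyQuasiFinite.of_injective fun a b _ => Subsingleton.elim a b
  have hpb : IsPullback (pullback.snd i (X.fromSpecResidueField x))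
      (pullback.fst i (X.fromSpecResidueField x) ≫ q) (X.fromSpecResidueField x ≫ p) s :=
    (IsPullback.of_hasPullback i (X.fromSpecResidueField x)).flip.paste_vert hi
  haveI : LocallyQuasiFinite (pullback.fst i (X.fromSpecResidueField x) ≫ q) :=
    MorphismProperty.of_isPullback hpb inferInstance
  haveI : QuasiCompact (pullback.fst i (X.fromSpecResidueField x) ≫ q) :=
    MorphismProperty.of_isPullback hpb inferInstance
  have hu : (Set.univ : Set ↥(i.fiber x)).Finite :=
    ((pullback.fst i (X.fromSpecResidueField x) ≫ q).finite_preimage_singleton default).subset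
      fun z _ => Subsingleton.elim _ _
  haveI : Finite ↥(i.fiber x) := Set.finite_univ_iff.mp hu
  haveI : Finite ↥(i ⁻¹' {x}) := Finite.of_equiv _ (i.fiberHomeo x).toEquiv
  exact Set.toFinite _

/-- Isolated singularities after the extension to an algebraic closure were isolated before it. -/
theorem finite_singSet_of_algebraicClosure {k : Type u} [Field k] {X X' : Scheme.{u}}
    {p : X ⟶ Spec (CommRingCat.of k)} {q : X' ⟶ Spec (CommRingCat.of (AlgebraicClosure k))} {i : X' ⟶ X}
    (hi : IsPullback i q p (Spec.map (CommRingCat.ofHom (algebraMap k (AlgebraicClosure k)))))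
    (h : (singSet q).Finite) : (singSet p).Finite := by
  let s := Spec.map (CommRingCat.ofHom (algebraMap k (AlgebraicClosure k)))
  haveI : Surjective s := ⟨fun z => ⟨default, Subsingleton.elim _ _⟩⟩
  haveI : Flat s := by
    rw [Flat.SpecMap_iff]
    exact RingHom.flat_algebraMap_iff.mpr inferInstance
  haveI : IsIntegralHom s := by
    rw [IsIntegralHom.SpecMap_iff]
    exact fun z => Algebra.IsIntegral.isIntegral z
  haveI : IsIntegralHom i := MorphismProperty.of_isPullback hi.flip (inferInstanceAs (IsIntegralHom s))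
  let W : X.Opens := ⟨(i '' singSet q)ᶜ, (i.isClosedMap _ (isClosed_singSet q)).isOpen_compl⟩
  have h1 : Smooth ((i ⁻¹ᵁ W).ι ≫ q) :=
    smooth_of_forall_notMem_singSet q _ fun x hx hx' => hx ⟨x, hx', rfl⟩
  have hW : Smooth (W.ι ≫ p) :=
    MorphismProperty.of_isPullback_of_descendsAlong (P := @Smooth)
      (Q := @Surjective ⊓ @Flat ⊓ @QuasiCompact) ((isPullback_morphismRestrict i W).paste_vert hi).flip
      ⟨⟨inferInstanceAs (Surjective s), inferInstanceAs (Flat s)⟩, inferInstanceAs (QuasiCompact s)⟩ h1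
  refine (h.image i).subset fun x hx => ?_
  by_contra hc
  exact hx ⟨W, hc, hW⟩

end Groth.L21.CurvFib
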