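import Groth.Prelude.Def_StCurv2
import Groth.Agent.L20.GeomFibre
import Mathlib.CategoryTheory.Limits.Constructions.Over.Connected
import Mathlib.AlgebraicGeometry.Geometrically.Reduced
import Mathlib.FieldTheory.IsAlgClosed.AlgebraicClosure

/-!
Geometric fibres of families of scheme curves.
-/

set_option autoImplicit false
universe u

open CategoryTheory CategoryTheory.Limits AlgebraicGeometry

noncomputable section

namespace Groth.L21.CurvFib

variable {S : Scheme.{u}}

/-- `GeomFib` on the classifying object of a scheme over a field is the condition on honest pullbacks. -/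
theorem geomFib_iff (k : Type u) [Field k] (t : Spec (CommRingCat.of k) ⟶ S) (X : Scheme.{u})
    (p : X ⟶ Spec (CommRingCat.of k))
    (P : ∀ (Ω : Type u) [Field Ω] [IsAlgClosed Ω] (X' : Scheme.{u}), (X' ⟶ Spec (CommRingCat.of Ω)) → Prop) :
    CurvSt.GeomFib (n := 0) (fun Ω _ _ X' q _ => P Ω X' q)
      ((CurvSt.toSpFam S 0).obj ⟨Over.mk t, X, p, Fin.elim0, fun i => i.elim0⟩) ↔
    ∀ (Ω : Type u) [Field Ω] [IsAlgClosed Ω] (s : Spec (CommRingCat.of Ω) ⟶ Spec (CommRingCat.of k))
      (X' : Scheme.{u}) (q : X' ⟶ Spec (CommRingCat.of Ω)) (i : X' ⟶ X),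
      IsPullback i q p s → P Ω X' q := by
  constructor
  · intro h Ω _ _ s X' q i hi
    let i' : Over.mk ((q ≫ s) ≫ t) ⟶ Over.mk (p ≫ t) := Over.homMk i (by
      simp only [Over.mk_hom, ← Category.assoc, hi.w])
    let q' : Over.mk ((q ≫ s) ≫ t) ⟶ Over.mk (s ≫ t) := Over.homMk q (by simp)
    let p' : Over.mk (p ≫ t) ⟶ Over.mk t := Over.homMk p rfl
    let s' : Over.mk (s ≫ t) ⟶ Over.mk t := Over.homMk s rfl
    have h2 : IsPullback i' q' p' s' := IsPullback.of_map (Over.forget S) (by ext; exact hi.w) hi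
    exact h Ω s X' q ((AlgSp.yon S).map i') (h2.map (AlgSp.yon S))
  · intro h Ω _ _ s X' q i hP
    obtain ⟨i', rfl⟩ := (AlgSp.yon S).map_surjective i
    have hw : i' ≫ (Over.homMk p rfl : Over.mk (p ≫ t) ⟶ Over.mk t) =
        (Over.homMk q (by simp) : Over.mk ((q ≫ s) ≫ t) ⟶ Over.mk (s ≫ t)) ≫
          (Over.homMk s rfl : Over.mk (s ≫ t) ⟶ Over.mk t) :=
      (AlgSp.yon S).map_injective (((AlgSp.yon S).map_comp _ _).trans (hP.w.trans ((AlgSp.yon S).map_comp _ _).symm))
    have h2 := (IsPullback.of_map (AlgSp.yon S) hw hP).map (Over.forget S)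
    exact h Ω s X' q i'.left h2

/-- Properties descending along surjective flat morphisms are geometric as soon as they hold after
base change to algebraically closed fields. -/
theorem forall_algClosed_iff_geometrically (Q : ObjectProperty Scheme.{u})
    (hQ : ∀ {Z' Z : Scheme.{u}} (g : Z' ⟶ Z) [Surjective g] [Flat g], Q Z' → Q Z)
    (k : Type u) [Field k] {X : Scheme.{u}} (p : X ⟶ Spec (CommRingCat.of k)) :
    (∀ (Ω : Type u) [Field Ω] [IsAlgClosed Ω] (s : Spec (CommRingCat.of Ω) ⟶ Spec (CommRingCat.of k))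
      (X' : Scheme.{u}) (q : X' ⟶ Spec (CommRingCat.of Ω)) (i : X' ⟶ X), IsPullback i q p s → Q X') ↔
    geometrically Q p := by
  refine ⟨fun h K _ y Z fst snd hZ => ?_, fun h Ω _ _ s X' q i hi => h s i q hi⟩
  let e : Spec (CommRingCat.of (AlgebraicClosure K)) ⟶ Spec (CommRingCat.of K) :=
    Spec.map (CommRingCat.ofHom (algebraMap K (AlgebraicClosure K)))
  haveI : Surjective e := ⟨fun z => ⟨default, Subsingleton.elim _ _⟩⟩
  haveI : Flat e := by
    rw [Flat.SpecMap_iff]
    exact RingHom.flat_algebraMap_iff.mpr inferInstance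
  exact hQ (pullback.fst snd e) (h (AlgebraicClosure K) (e ≫ y) _ (pullback.snd snd e) (pullback.fst snd e ≫ fst)
    (IsPullback.paste_horiz (IsPullback.of_hasPullback snd e) hZ))

end Groth.L21.CurvFib
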